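import Mathlib

/-!
# Finite free algebras splitting monic polynomials, and factoring standard étale algebras through them
-/

set_option autoImplicit false

universe u

open Polynomial

namespace Groth.Agent.SplitCover

/-- `f` is a product of linear factors in `S'` -/
def SplitsIn {R : Type u} [CommRing R] (f : R[X]) (S' : Type u) [CommRing S'] [Algebra R S'] : Prop :=
  ∃ r : Multiset S', f.map (algebraMap R S') = (r.map fun a => X - C a).prod

theorem exists_split (n : ℕ) : ∀ (R : Type u) [CommRing R] (f : R[X]), f.Monic → f.natDegree = n →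
    ∃ (S' : Type u) (_ : CommRing S') (_ : Algebra R S'),
      Module.Finite R S' ∧ Module.Free R S' ∧ Module.FaithfullyFlat R S' ∧ SplitsIn f S' := by
  induction n with
  | zero =>
    intro R _ f hf hn
    refine ⟨R, inferInstance, Algebra.id R, inferInstance, inferInstance, inferInstance, 0, ?_⟩
    rw [hf.natDegree_eq_zero.1 hn]
    simp
  | succ n ih =>
    intro R _ f hf hn
    have : Nontrivial R := by
      by_contra h
      rw [not_nontrivial_iff_subsingleton] at h
      rw [natDegree_of_subsingleton] at hn
      omega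
    let A := AdjoinRoot f
    let pb := AdjoinRoot.powerBasis' hf
    have : Module.Free R A := Module.Free.of_basis pb.basis
    have : Module.Finite R A := pb.finite
    have : Nontrivial A := by
      refine ⟨⟨pb.basis ⟨0, by rw [AdjoinRoot.powerBasis'_dim]; omega⟩, 0, ?_⟩⟩
      exact pb.basis.ne_zero _
    have : Module.FaithfullyFlat R A := inferInstance
    let q := f.map (algebraMap R A) /ₘ (X - C (AdjoinRoot.root f))
    have hroot : (f.map (algebraMap R A)).IsRoot (AdjoinRoot.root f) := by
      rw [AdjoinRoot.algebraMap_eq]; exact AdjoinRoot.isRoot_root f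
    have hqf := Polynomial.mul_divByMonic_eq_iff_isRoot.2 hroot
    have hq : q.Monic := (monic_X_sub_C _).of_mul_monic_left (by rw [hqf]; exact hf.map _)
    have hqn : q.natDegree = n := by
      have h := congrArg natDegree hqf
      rw [(monic_X_sub_C _).natDegree_mul hq, natDegree_X_sub_C, hf.natDegree_map, hn] at h
      omega
    obtain ⟨S', _, _, _, _, _, r, hr⟩ := ih A q hq hqn
    letI : Algebra R S' := ((algebraMap A S').comp (algebraMap R A)).toAlgebra
    have : IsScalarTower R A S' := IsScalarTower.of_algebraMap_eq' rfl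
    refine ⟨S', inferInstance, inferInstance, Module.Finite.trans A S', Module.Free.trans (S := A),
      Module.FaithfullyFlat.trans R A S', algebraMap A S' (AdjoinRoot.root f) ::ₘ r, ?_⟩
    rw [Multiset.map_cons, Multiset.prod_cons, ← hr, ← map_X (algebraMap A S'), ← map_C,
      ← Polynomial.map_sub, ← Polynomial.map_mul, hqf, Polynomial.map_map,
      ← IsScalarTower.algebraMap_eq]

/-- one finite free algebra splitting a finite list of monic polynomials -/
theorem exists_split_list (R : Type u) [CommRing R] (l : List R[X]) (hl : ∀ f ∈ l, f.Monic) :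
    ∃ (S' : Type u) (_ : CommRing S') (_ : Algebra R S'),
      Module.Finite R S' ∧ Module.Free R S' ∧ Module.FaithfullyFlat R S' ∧ ∀ f ∈ l, SplitsIn f S' := by
  induction l with
  | nil => exact ⟨R, inferInstance, Algebra.id R, inferInstance, inferInstance, inferInstance, fun f hf => absurd hf (List.not_mem_nil)⟩
  | cons f l ih =>
    obtain ⟨S, _, _, _, _, _, hS⟩ := ih fun g hg => hl g (List.mem_cons_of_mem _ hg)
    obtain ⟨S', _, _, _, _, _, r, hr⟩ := exists_split _ S (f.map (algebraMap R S))
      ((hl f List.mem_cons_self).map _) rfl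
    letI : Algebra R S' := ((algebraMap S S').comp (algebraMap R S)).toAlgebra
    have : IsScalarTower R S S' := IsScalarTower.of_algebraMap_eq' rfl
    refine ⟨S', inferInstance, inferInstance, Module.Finite.trans S S', Module.Free.trans (S := S),
      Module.FaithfullyFlat.trans R S S', fun g hg => ?_⟩
    rcases List.mem_cons.1 hg with rfl | hg
    · exact ⟨r, by rw [← hr, Polynomial.map_map, ← IsScalarTower.algebraMap_eq]⟩
    · obtain ⟨r', hr'⟩ := hS g hg
      refine ⟨r'.map (algebraMap S S'), ?_⟩
      rw [IsScalarTower.algebraMap_eq R S S', ← Polynomial.map_map, hr', Polynomial.map_multiset_prod,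
        Multiset.map_map, Multiset.map_map]
      simp [Function.comp_def]

theorem finitePresentation_of_free (R S' : Type u) [CommRing R] [CommRing S'] [Algebra R S']
    [Module.Finite R S'] [Module.Free R S'] : Algebra.FinitePresentation R S' := by
  have : Module.FinitePresentation R S' := Module.finitePresentation_of_projective R S'
  infer_instance

/-- a root in a splitting algebra with prescribed vanishing at a prime -/
theorem exists_root {R S S' : Type u} [CommRing R] [CommRing S] [CommRing S'] [Algebra R S] [Algebra R S']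
    (f : R[X]) (hf : f.Monic) (hsplit : SplitsIn f S') (x : S) (hx : aeval x f = 0)
    (q : Ideal S) [q.IsPrime] (q' : Ideal S') [q'.IsPrime] (h : q'.under R = q.under R) :
    ∃ r : S', aeval r f = 0 ∧ ∀ p : R[X], aeval r p ∈ q' ↔ aeval x p ∈ q := by
  classical
  let P := q.under R
  have : q.LiesOver P := ⟨rfl⟩
  have : q'.LiesOver P := ⟨h.symm⟩
  letI := Localization.AtPrime.algebraOfLiesOver P q
  letI := Localization.AtPrime.algebraOfLiesOver P q'
  let F := P.ResidueField
  let ξ : q.ResidueField := algebraMap S q.ResidueField x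
  have hmap : ∀ (p : R[X]), aeval ξ (p.map (algebraMap R F)) = algebraMap S q.ResidueField (aeval x p) := fun p => by
    rw [aeval_map_algebraMap, ← IsScalarTower.coe_toAlgHom' R S q.ResidueField, ← aeval_algHom_apply]
    rfl
  have hξf : aeval ξ (f.map (algebraMap R F)) = 0 := by rw [hmap, hx, map_zero]
  have hint : IsIntegral F ξ := ⟨_, hf.map _, by rw [← aeval_def]; exact hξf⟩
  let μ := minpoly F ξ
  have hdvd : μ ∣ f.map (algebraMap R F) := minpoly.dvd F ξ hξf
  obtain ⟨rs, hrs⟩ := hsplit
  have hsp : ((f.map (algebraMap R F)).map (algebraMap F q'.ResidueField)).Splits := by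
    rw [Polynomial.map_map, ← IsScalarTower.algebraMap_eq R F q'.ResidueField,
      IsScalarTower.algebraMap_eq R S' q'.ResidueField, ← Polynomial.map_map, hrs, Polynomial.map_multiset_prod,
      Multiset.map_map]
    refine Polynomial.Splits.multisetProd fun a ha => ?_
    obtain ⟨b, -, rfl⟩ := Multiset.mem_map.1 ha
    simp only [Function.comp_apply, Polynomial.map_sub, map_X, map_C]
    exact Polynomial.Splits.X_sub_C _
  have hne : (f.map (algebraMap R F)).map (algebraMap F q'.ResidueField) ≠ 0 := ((hf.map _).map _).ne_zero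
  obtain ⟨η, hη⟩ := (hsp.of_dvd hne (Polynomial.map_dvd _ hdvd)).exists_eval_eq_zero (by
    rw [degree_map]; exact (minpoly.degree_pos hint).ne')
  have hηf : ((f.map (algebraMap R F)).map (algebraMap F q'.ResidueField)).IsRoot η :=
    Polynomial.eval_eq_zero_of_dvd_of_eval_eq_zero (Polynomial.map_dvd _ hdvd) hη
  rw [Polynomial.map_map, ← IsScalarTower.algebraMap_eq R F q'.ResidueField,
    IsScalarTower.algebraMap_eq R S' q'.ResidueField, ← Polynomial.map_map, hrs, Polynomial.map_multiset_prod,
    Multiset.map_map, IsRoot.def, eval_multiset_prod, Multiset.prod_eq_zero_iff, Multiset.map_map,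
    Multiset.mem_map] at hηf
  obtain ⟨r, hr, hrη⟩ := hηf
  have hrη' : algebraMap S' q'.ResidueField r = η := by
    simp only [Function.comp_apply, Polynomial.map_sub, map_X, map_C, eval_sub, eval_X, eval_C] at hrη
    exact (sub_eq_zero.1 hrη).symm
  refine ⟨r, ?_, fun p => ?_⟩
  · rw [aeval_def, ← eval_map, hrs, eval_multiset_prod, Multiset.map_map]
    exact Multiset.prod_eq_zero (Multiset.mem_map.2 ⟨r, hr, by simp⟩)
  · rw [← Ideal.algebraMap_residueField_eq_zero (I := q), ← Ideal.algebraMap_residueField_eq_zero (I := q'),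
      ← hmap p]
    have hp : algebraMap S' q'.ResidueField (aeval r p) = aeval η (p.map (algebraMap R F)) := by
      rw [aeval_map_algebraMap, ← hrη', ← IsScalarTower.coe_toAlgHom' R S' q'.ResidueField, ← aeval_algHom_apply]
    rw [hp]
    have hημ : aeval η μ = 0 := by rw [aeval_def, ← eval_map]; exact hη
    have hμη : minpoly F η = μ :=
      (minpoly.eq_of_irreducible_of_monic (minpoly.irreducible hint) hημ (minpoly.monic hint)).symm
    rw [← minpoly.dvd_iff, hμη, minpoly.dvd_iff]

/-- a standard étale algebra maps to the split algebra, compatibly with given primes over the same prime -/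
theorem exists_algHom {R S S' : Type u} [CommRing R] [CommRing S] [CommRing S'] [Algebra R S] [Algebra R S']
    (P : StandardEtalePresentation R S) (hsplit : SplitsIn P.f S')
    (q : Ideal S) [q.IsPrime] (q' : Ideal S') [q'.IsPrime] (h : q'.under R = q.under R) :
    ∃ (g' : S') (_ : g' ∉ q') (φ : S →ₐ[R] Localization.Away g'),
      (q'.map (algebraMap S' (Localization.Away g'))).comap φ = q := by
  obtain ⟨r, hr, hiff⟩ := exists_root P.f P.monic_f hsplit P.x P.hasMap.1 q q' h
  let g' := aeval r P.g
  have hgq : aeval P.x P.g ∉ q := fun hm => ‹q.IsPrime›.ne_top (Ideal.eq_top_of_isUnit_mem _ hm P.hasMap.2)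
  have hg' : g' ∉ q' := fun hm => hgq ((hiff _).1 hm)
  let L := Localization.Away g'
  let rL : L := algebraMap S' L r
  have hev : ∀ p : R[X], aeval rL p = algebraMap S' L (aeval r p) := fun p => by
    rw [← IsScalarTower.coe_toAlgHom' R S' L, ← aeval_algHom_apply]
    rfl
  have hmap : P.P.HasMap rL := ⟨by rw [hev, hr, map_zero], by
    rw [hev]; exact IsLocalization.Away.algebraMap_isUnit g'⟩
  let φ : S →ₐ[R] L := (P.P.lift rL hmap).comp P.equivRing.toAlgHom
  have hφx : φ P.x = rL := by
    show P.P.lift rL hmap (P.equivRing P.x) = rL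
    rw [P.equivRing_x, StandardEtalePair.lift_X]
  have hd : Disjoint (Submonoid.powers g' : Set S') (q' : Set S') :=
    (Ideal.disjoint_powers_iff_notMem_of_isPrime _).mpr hg'
  have hQp : (q'.map (algebraMap S' L)).IsPrime :=
    IsLocalization.isPrime_of_isPrime_disjoint (.powers g') _ _ ‹_› hd
  have hQc : (q'.map (algebraMap S' L)).comap (algebraMap S' L) = q' :=
    IsLocalization.under_map_of_isPrime_disjoint (.powers g') _ ‹_› hd
  refine ⟨g', hg', φ, Ideal.ext fun s => ?_⟩
  obtain ⟨p, n, hp⟩ := P.exists_mul_aeval_x_g_pow_eq_aeval_x s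
  have h1 : s ∈ q ↔ aeval P.x p ∈ q := by
    rw [← hp, Ideal.IsPrime.mul_mem_iff_mem_or_mem ‹q.IsPrime›]
    exact ⟨Or.inl, fun h => h.resolve_right fun hm => hgq (‹q.IsPrime›.mem_of_pow_mem _ hm)⟩
  have h2 : φ s * aeval rL P.g ^ n = aeval rL p := by
    have := congrArg φ hp
    rw [map_mul, map_pow, ← aeval_algHom_apply, ← aeval_algHom_apply, hφx] at this
    exact this
  have h3 : φ s ∈ q'.map (algebraMap S' L) ↔ aeval r p ∈ q' := by
    rw [← hQc, Ideal.mem_comap, hQc, ← hev, ← h2, Ideal.mul_unit_mem_iff_mem _ (hmap.2.pow n)]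
  rw [Ideal.mem_comap, h3, hiff, h1]

end Groth.Agent.SplitCover
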